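import Cfsg.Agent.H185.TI.Kap
import Cfsg.Agent.H155.TI.FourNon

/-!
# Row `PSL₃(4)` of S4819, S4820 : the sign lemma, hom form (helper185)
-/

set_option autoImplicit false

open scoped ComplexConjugate
open Cfsg Cfsg.Agent.Characters.Core

namespace Cfsg.Agent.H185.TI

open Cfsg.Agent.H155.TI (Over Pair Inv Six Quad)
open Cfsg.Agent.H41.TI (exists_ext exists_scal over_iff)

universe u

section fibh

variable {A B W : Type u} [Group A] [Group B] [Group W] {N : Subgroup W} [hNn : N.Normal] {i : A →* B} {k : B →* W}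

/-- the map of fibre products -/
def fm [i.range.Normal] (hN : (k.comp i).range = N) : Fib i.range →* Fib N where
  toFun q := ⟨(k q.1.1, k q.1.2), by
    rw [mem_Fib, ← hN]
    obtain ⟨a, ha⟩ := q.2
    exact ⟨a, by rw [MonoidHom.comp_apply, ha, map_mul, map_inv]⟩⟩
  map_one' := Subtype.ext (Prod.ext (map_one k) (map_one k))
  map_mul' p q := Subtype.ext (Prod.ext (map_mul k _ _) (map_mul k _ _))

theorem fm_inj [i.range.Normal] (hN : (k.comp i).range = N) (hk : Function.Injective k) :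
    Function.Injective (fm (N := N) (i := i) (k := k) hN) := by
  rintro ⟨⟨a, b⟩, h1⟩ ⟨⟨a', b'⟩, h2⟩ h
  have e1 := congrArg (fun q : Fib N => p1 N q) h
  have e2 := congrArg (fun q : Fib N => p2 N q) h
  exact Subtype.ext (Prod.ext (hk e1) (hk e2))

theorem fm_range [i.range.Normal] (hN : (k.comp i).range = N) :
    (fm (N := N) (i := i) (k := k) hN).range = k.range.comap (p1 N) := by
  ext q
  rw [MonoidHom.mem_range, Subgroup.mem_comap]
  constructor
  · rintro ⟨t, rfl⟩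
    exact ⟨t.1.1, rfl⟩
  · rintro ⟨b, hb⟩
    have h1 : (p1 N q)⁻¹ * p2 N q ∈ (k.comp i).range := by
      rw [hN]
      exact q.2
    obtain ⟨a, ha⟩ := h1
    refine ⟨⟨(b, b * i a), ?_⟩, ?_⟩
    · rw [mem_Fib]
      exact ⟨a, by simp⟩
    · refine Subtype.ext (Prod.ext hb ?_)
      show k (b * i a) = p2 N q
      rw [MonoidHom.comp_apply] at ha
      rw [map_mul, ha, hb]
      group

theorem fm_index [i.range.Normal] (hN : (k.comp i).range = N) :
    (fm (N := N) (i := i) (k := k) hN).range.index = k.range.index := by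
  rw [fm_range, Subgroup.index_comap_of_surjective _ (p1_surj N)]

/-- `A × A` in the fibre product -/
def aah (i : A →* B) [i.range.Normal] : A × A →* Fib i.range where
  toFun t := ⟨(i t.1, i t.2), by
    rw [mem_Fib]
    exact ⟨t.1⁻¹ * t.2, by rw [map_mul, map_inv]⟩⟩
  map_one' := Subtype.ext (Prod.ext (map_one i) (map_one i))
  map_mul' p q := Subtype.ext (Prod.ext (map_mul i _ _) (map_mul i _ _))

theorem aah_inj (i : A →* B) [i.range.Normal] (hi : Function.Injective i) : Function.Injective (aah i) := by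
  rintro ⟨a, b⟩ ⟨a', b'⟩ h
  have h1 := congrArg (fun q : Fib i.range => p1 i.range q) h
  have h2 := congrArg (fun q : Fib i.range => p2 i.range q) h
  exact Prod.ext (hi h1) (hi h2)

theorem aah_range (i : A →* B) [i.range.Normal] : (aah i).range = i.range.comap (p1 i.range) := by
  ext q
  rw [MonoidHom.mem_range, Subgroup.mem_comap]
  constructor
  · rintro ⟨t, rfl⟩
    exact ⟨t.1, rfl⟩
  · rintro ⟨a, ha⟩
    obtain ⟨b, hb⟩ : p2 i.range q ∈ i.range := p2_mem (W := i.range) le_rfl ⟨a, ha⟩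
    exact ⟨(a, b), Subtype.ext (Prod.ext ha hb)⟩

theorem aah_index (i : A →* B) [i.range.Normal] : (aah i).range.index = i.range.index := by
  rw [aah_range, Subgroup.index_comap_of_surjective _ (p1_surj i.range)]

/-- the outer product on the fibre product -/
noncomputable def outh (i : A →* B) [i.range.Normal] (α β : B → ℂ) (q : Fib i.range) : ℂ := α q.1.1 * conj (β q.1.2)

theorem outh_irr [Finite B] (hi : Function.Injective i) [i.range.Normal] {α β : B → ℂ} (hα : IsIrrCharacter B α)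
    (hβ : IsIrrCharacter B β) (hα' : IsIrrCharacter A (fun a => α (i a))) (hβ' : IsIrrCharacter A (fun a => β (i a))) :
    IsIrrCharacter (Fib i.range) (outh i α β) := by
  haveI : Finite A := Finite.of_injective i hi
  refine CharactersDeep.MaxInduced.isIrr_of_comp (aah i) ?_ ?_
  · exact isCharacter_mul (isCharacter_comp (p1 i.range) (isIrr_isCharacter hα))
      (isCharacter_comp (p2 i.range) (isIrr_isCharacter (isIrr_conj hβ)))
  · exact S0188.isIrr_outer hα' (isIrr_conj hβ')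

/-- a zero on one side gives a zero of the extension -/
theorem zero_ath [Finite W] (hk : Function.Injective k) (hi : Function.Injective i) (hidx : i.range.index = 2)
    (hN : (k.comp i).range = N) {ξ : Fib N → ℂ} (hξ : IsIrrCharacter (Fib N) ξ) {α β : IrrCharacter B}
    (hα' : IsIrrCharacter A (fun a => (α : B → ℂ) (i a))) (hβ' : IsIrrCharacter A (fun a => (β : B → ℂ) (i a)))
    (he : ∀ (a b : A) (q : Fib N), q.1 = (k (i a), k (i b)) → ξ q = (α : B → ℂ) (i a) * conj ((β : B → ℂ) (i b)))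
    {y : B} (hy : y ∉ i.range) (h0 : (α : B → ℂ) y = 0) : ξ (dg N (k y)) = 0 := by
  haveI : Finite B := Finite.of_injective k hk
  haveI : Finite A := Finite.of_injective i hi
  haveI hnrm : i.range.Normal := Subgroup.normal_of_index_eq_two hidx
  have hp := pair_triv (aah i) (aah_inj i hi) ((aah_index i).trans hidx)
  have hηi : IsIrrCharacter (A × A) (fun t => (α : B → ℂ) (i t.1) * conj ((β : B → ℂ) (i t.2))) :=
    S0188.isIrr_outer hα' (isIrr_conj hβ')
  have hyr : dg i.range y ∉ (aah i).range := by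
    rw [aah_range]
    exact hy
  have he' : ∀ t : A × A, ξ (fm hN (aah i t)) = (α : B → ℂ) (i t.1) * conj ((β : B → ℂ) (i t.2)) :=
    fun t => he t.1 t.2 _ rfl
  have hres : IsIrrCharacter (Fib i.range) (fun q => ξ (fm hN q)) :=
    CharactersDeep.MaxInduced.isIrr_of_comp (aah i) (isCharacter_comp (fm hN) (isIrr_isCharacter hξ)) (by
      have h1 : ((fun q : Fib i.range => ξ (fm hN q)) ∘ aah i) =
          (fun t : A × A => (α : B → ℂ) (i t.1) * conj ((β : B → ℂ) (i t.2))) := funext he'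
      rw [h1]
      exact hηi)
  obtain ⟨χ, χ', -, -, -, h4, h5⟩ := exists_ext hp hyr ⟨_, hηi⟩ (by
    intro a a' h
    show (α : B → ℂ) (i a'.1) * conj ((β : B → ℂ) (i a'.2)) = (α : B → ℂ) (i a.1) * conj ((β : B → ℂ) (i a.2))
    rw [← he' a', ← he' a]
    have h1 : aah i a' = _ := h
    rw [h1, map_mul, map_mul, map_inv]
    exact isIrr_isClassFunction hξ _ _)
  have h6 := h5 ⟨_, hres⟩ fun t => he' t
  have h7 := h5 ⟨_, outh_irr hi α.2 β.2 hα' hβ'⟩ fun t => rfl
  have h8 : outh i (α : B → ℂ) (β : B → ℂ) (dg i.range y) = 0 := by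
    show (α : B → ℂ) y * _ = 0
    rw [h0, zero_mul]
  have h9 := h4 _ hyr
  have h10 : (χ : Fib i.range → ℂ) (dg i.range y) = 0 ∧ (χ' : Fib i.range → ℂ) (dg i.range y) = 0 := by
    rcases h7 with h | h
    · have h11 := congrArg (fun f : IrrCharacter (Fib i.range) => (f : Fib i.range → ℂ) (dg i.range y)) h
      have h12 : outh i (α : B → ℂ) (β : B → ℂ) (dg i.range y) = (χ : Fib i.range → ℂ) (dg i.range y) := h11
      rw [h8] at h12
      exact ⟨h12.symm, by rw [h9, ← h12, neg_zero]⟩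
    · have h11 := congrArg (fun f : IrrCharacter (Fib i.range) => (f : Fib i.range → ℂ) (dg i.range y)) h
      have h12 : outh i (α : B → ℂ) (β : B → ℂ) (dg i.range y) = (χ' : Fib i.range → ℂ) (dg i.range y) := h11
      rw [h8] at h12
      refine ⟨?_, h12.symm⟩
      rw [← h12] at h9
      exact neg_eq_zero.1 h9.symm
  rcases h6 with h | h
  · have h11 := congrArg (fun f : IrrCharacter (Fib i.range) => (f : Fib i.range → ℂ) (dg i.range y)) h
    exact h11.trans h10.1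
  · have h11 := congrArg (fun f : IrrCharacter (Fib i.range) => (f : Fib i.range → ℂ) (dg i.range y)) h
    exact h11.trans h10.2

end fibh

section mainh

variable {Z A B W W1 W2 : Type u} [Group Z] [Group A] [Group B] [Group W] [Group W1] [Group W2] [Finite W]
  {j : Z →* A} {i : A →* B} {k : B →* W} {lam : Z →* ℂˣ} {x : A} {c : B} {r : W} {zr : Z}

theorem Quad_normal (q : Quad j i k x c r zr) : (k.comp i).range.Normal := by
  have hB : Finite B := q.finB
  have hn1 : i.range.Normal := Subgroup.normal_of_index_eq_two q.h1.idx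
  refine ⟨fun n hn g => ?_⟩
  obtain ⟨a, rfl⟩ := hn
  have hb : ∀ (b : B) (a : A), ∃ a', k (i a') = k b * k (i a) * (k b)⁻¹ := by
    intro b a
    obtain ⟨a', ha'⟩ := hn1.conj_mem (i a) ⟨a, rfl⟩ b
    exact ⟨a', by rw [ha', map_mul, map_mul, map_inv]⟩
  have hg : g ∈ k.range ∨ g * r⁻¹ ∈ k.range := by
    by_cases h : g ∈ k.range
    · exact Or.inl h
    · right
      have hrW := q.rW
      have h3 := (Subgroup.mul_mem_iff_of_index_two q.h2.idx (a := g) (b := r⁻¹))
      rw [h3]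
      rw [Subgroup.inv_mem_iff]
      exact ⟨fun h' => absurd h' h, fun h' => absurd h' hrW⟩
  rcases hg with ⟨b, rfl⟩ | ⟨b, hb'⟩
  · obtain ⟨a', ha'⟩ := hb b a
    exact ⟨a', ha'⟩
  · obtain ⟨a1, ha1⟩ := q.nA a
    obtain ⟨a2, ha2⟩ := hb b a1
    refine ⟨a2, ?_⟩
    rw [MonoidHom.comp_apply, ha2, ha1, hb', MonoidHom.comp_apply]
    group

theorem lam_conj [Finite Z] (lam : Z →* ℂˣ) (z : Z) : (lam z : ℂ) * conj (lam z : ℂ) = 1 := by
  have g1 : (lam z) ^ Nat.card Z = 1 := by rw [← map_pow, pow_card_eq_one', map_one]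
  have g2 : ((lam z : ℂˣ) : ℂ) ^ Nat.card Z = 1 := by
    rw [← Units.val_pow_eq_pow_val, g1, Units.val_one]
  have g3 := Complex.norm_eq_one_of_pow_eq_one g2 Nat.card_pos.ne'
  rw [Complex.mul_conj, Complex.normSq_eq_norm_sq, g3]
  simp

/-- **the sign argument**, hom form -/
theorem sgn_auxh (q : Quad j i k x c r zr) (hx3 : x ^ 3 = 1) (hrr : ∃ z, r * r = k (i (j z)))
    {i1 : A →* W1} {k1 : W1 →* W} (hk1 : Function.Injective k1) (e1 : ∀ a, k1 (i1 a) = k (i a))
    (hi1 : i1.range.index = 2) {r1 : W1} (hr1 : k1 r1 = r)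
    {i2 : A →* W2} {k2 : W2 →* W} (hk2 : Function.Injective k2) (e2 : ∀ a, k2 (i2 a) = k (i a))
    (hi2 : i2.range.index = 2) {r2 : W2} (hr2 : k2 r2 = k c * r)
    {α β : IrrCharacter B} (hα : Over (i.comp j) lam (α : B → ℂ)) (hβ : Over (i.comp j) lam (β : B → ℂ))
    (hα' : IsIrrCharacter A (fun a => (α : B → ℂ) (i a))) (hβ' : IsIrrCharacter A (fun a => (β : B → ℂ) (i a)))
    (hinv : ∀ b b' d d' : B, k b' = r * k b * r⁻¹ → k d' = r * k d * r⁻¹ → b⁻¹ * d ∈ i.range →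
      (α : B → ℂ) b' * conj ((β : B → ℂ) d') = (α : B → ℂ) b * conj ((β : B → ℂ) d))
    (hv : (α : B → ℂ) (i x) * conj ((β : B → ℂ) (i x)) = 2 ∨ (α : B → ℂ) (i x) * conj ((β : B → ℂ) (i x)) = -2)
    (v0 : (α : B → ℂ) (i x * c) = 0)
    (v1 : ∃ α1 β1 : IrrCharacter W1, (∀ a : A, (α1 : W1 → ℂ) (i1 a) = (α : B → ℂ) (i a)) ∧
      (∀ a : A, (β1 : W1 → ℂ) (i1 a) = (β : B → ℂ) (i a)) ∧ (α1 : W1 → ℂ) (i1 x * r1) = 0)
    (v2 : ∃ α2 β2 : IrrCharacter W2, (∀ a : A, (α2 : W2 → ℂ) (i2 a) = (α : B → ℂ) (i a)) ∧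
      (∀ a : A, (β2 : W2 → ℂ) (i2 a) = (β : B → ℂ) (i a)) ∧ (α2 : W2 → ℂ) (i2 x * r2) = 0) : False := by
  classical
  have hBf : Finite B := q.finB
  have hAf : Finite A := q.finA
  have hZf : Finite Z := Finite.of_injective j q.h1.ji
  haveI hn1 : i.range.Normal := Subgroup.normal_of_index_eq_two q.h1.idx
  haveI hN := Quad_normal q
  set N : Subgroup W := (k.comp i).range with hNdef
  -- the extension
  have hp := pair_triv (fm (N := N) (i := i) (k := k) rfl) (fm_inj rfl q.h2.ii) ((fm_index rfl).trans q.h2.idx)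
  have hrn : dg N r ∉ (fm (N := N) (i := i) (k := k) rfl).range := by
    rw [fm_range]
    exact q.rW
  obtain ⟨ξ, -, -, hξ, -⟩ := exists_ext hp hrn ⟨_, outh_irr q.h1.ii α.2 β.2 hα' hβ'⟩ (by
    intro p p' h
    have f1 : k p'.1.1 = r * k p.1.1 * r⁻¹ := congrArg (p1 N) h
    have f2 : k p'.1.2 = r * k p.1.2 * r⁻¹ := congrArg (p2 N) h
    exact hinv _ _ _ _ f1 f2 p.2)
  have hξ' : ∀ (b d : B) (hbd : b⁻¹ * d ∈ i.range) (q : Fib N), q.1 = (k b, k d) →
      (ξ : Fib N → ℂ) q = (α : B → ℂ) b * conj ((β : B → ℂ) d) := by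
    intro b d hbd q hq
    have h1 := hξ ⟨(b, d), hbd⟩
    have h2 : fm (N := N) (i := i) (k := k) rfl ⟨(b, d), hbd⟩ = q := Subtype.ext hq.symm
    rw [h2] at h1
    exact h1
  have hone : ∀ b : B, b⁻¹ * b ∈ i.range := fun b => by rw [inv_mul_cancel]; exact one_mem _
  have haa : ∀ a b : A, (i a)⁻¹ * i b ∈ i.range := fun a b => ⟨a⁻¹ * b, by rw [map_mul, map_inv]⟩
  -- values
  have w0 : (ξ : Fib N → ℂ) (dg N (k (i x))) = 2 ∨ (ξ : Fib N → ℂ) (dg N (k (i x))) = -2 := by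
    rw [hξ' (i x) (i x) (hone _) (dg N (k (i x))) rfl]
    exact hv
  have wc : (ξ : Fib N → ℂ) (dg N (k (i x) * k c)) = 0 := by
    rw [hξ' (i x * c) (i x * c) (hone _) _ (by rw [map_mul]; rfl), v0, zero_mul]
  have hrA : ∀ a, k (i a) ≠ r := fun a h => q.rW ⟨i a, h⟩
  have hN1 : (k1.comp i1).range = N := by
    rw [hNdef]
    congr 1
    ext a
    exact e1 a
  have hN2 : (k2.comp i2).range = N := by
    rw [hNdef]
    congr 1
    ext a
    exact e2 a
  have hi1' : Function.Injective i1 := by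
    intro a b h
    apply q.h1.ii
    apply q.h2.ii
    rw [← e1, ← e1, h]
  have hi2' : Function.Injective i2 := by
    intro a b h
    apply q.h1.ii
    apply q.h2.ii
    rw [← e2, ← e2, h]
  have wr : (ξ : Fib N → ℂ) (dg N (k (i x) * r)) = 0 := by
    obtain ⟨α1, β1, ha, hb, h0⟩ := v1
    have h3 := zero_ath (α := α1) (β := β1) hk1 hi1' hi1 hN1 ξ.2 (by rw [funext ha]; exact hα')
      (by rw [funext hb]; exact hβ') (by
        intro a b p hp
        rw [ha, hb]
        refine hξ' (i a) (i b) (haa a b) p ?_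
        rw [hp, e1, e1]) (y := i1 x * r1) (by
        rintro ⟨a, ha'⟩
        refine hrA (x⁻¹ * a) ?_
        rw [← e1, map_mul, ha', map_inv, inv_mul_cancel_left, hr1]) h0
    rw [map_mul, hr1, e1] at h3
    exact h3
  have wcr : (ξ : Fib N → ℂ) (dg N (k (i x) * (k c * r))) = 0 := by
    obtain ⟨α1, β1, ha, hb, h0⟩ := v2
    have h3 := zero_ath (α := α1) (β := β1) hk2 hi2' hi2 hN2 ξ.2 (by rw [funext ha]; exact hα')
      (by rw [funext hb]; exact hβ') (by
        intro a b p hp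
        rw [ha, hb]
        refine hξ' (i a) (i b) (haa a b) p ?_
        rw [hp, e2, e2]) (y := i2 x * r2) (by
        rintro ⟨a, ha'⟩
        have h5 : k (i (x⁻¹ * a)) = k c * r := by
          rw [← e2, map_mul, ha', map_inv, inv_mul_cancel_left, hr2]
        refine q.rW ⟨c⁻¹ * i (x⁻¹ * a), ?_⟩
        rw [map_mul, h5, map_inv, inv_mul_cancel_left]) h0
    rw [map_mul, hr2, e2] at h3
    exact h3
  -- the central elements act trivially
  obtain ⟨n, ρ, hρ, hρξ⟩ := ξ.2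
  have htriv : ∀ z : Z, ρ (dg N (k (i (j z)))) = 1 := by
    intro z
    obtain ⟨s, hs⟩ := CharactersDeep.Extraspecial.exists_central_hom_rep ρ hρ
    have hzc : dg N (k (i (j z))) ∈ Subgroup.center (Fib N) := by
      rw [Subgroup.mem_center_iff]
      intro p
      have hz' := q.h2.cen z
      exact Subtype.ext (Prod.ext (hz' p.1.1).symm (hz' p.1.2).symm)
    have f1 := hs ⟨dg N (k (i (j z))), hzc⟩
    have f2 : ρ.character (dg N (k (i (j z)))) = (s ⟨dg N (k (i (j z))), hzc⟩ : ℂ) * ρ.character 1 := by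
      show LinearMap.trace ℂ _ (ρ (dg N (k (i (j z))))) = _ * LinearMap.trace ℂ _ (ρ 1)
      rw [f1, map_smul, smul_eq_mul, map_one]
      rfl
    have f3 : ρ.character (dg N (k (i (j z)))) = ρ.character 1 := by
      rw [hρξ]
      rw [hξ' (i (j z)) (i (j z)) (hone _) _ rfl, hξ' 1 1 (hone _) 1 (by rw [map_one]; rfl)]
      have g3 := hα z 1
      have g4 := hβ z 1
      rw [mul_one, MonoidHom.comp_apply] at g3 g4
      rw [g3, g4, map_mul]
      linear_combination ((α : B → ℂ) 1 * conj ((β : B → ℂ) 1)) * lam_conj lam z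
    have f4 : ρ.character 1 ≠ 0 := by
      rw [hρξ]
      exact isIrr_apply_one_ne_zero ξ.2
    rw [f3] at f2
    have f5 : (s ⟨dg N (k (i (j z))), hzc⟩ : ℂ) = 1 := by
      have f6 : ((s ⟨dg N (k (i (j z))), hzc⟩ : ℂ) - 1) * ρ.character 1 = 0 := by linear_combination -f2
      rcases mul_eq_zero.1 f6 with h | h
      · exact sub_eq_zero.1 h
      · exact absurd h f4
    have f7 : ρ (dg N (k (i (j z)))) = (s ⟨dg N (k (i (j z))), hzc⟩ : ℂ) • LinearMap.id := f1
    rw [f7, f5, one_smul]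
    rfl
  have hX3 : k (i x) ^ 3 = 1 := by rw [← map_pow, ← map_pow, hx3, map_one, map_one]
  have hCX : k c * k (i x) = k (i x) * k c := by rw [← map_mul, ← map_mul, q.cx]
  have hI := four_int ρ (x := dg N (k (i x))) (c := dg N (k c)) (r := dg N r) (Subtype.ext (Prod.ext hX3 hX3))
    (Subtype.ext (Prod.ext hCX hCX)) (Subtype.ext (Prod.ext q.rx q.rx)) (by
      obtain ⟨z, hz⟩ := q.cc
      have : dg N (k c) * dg N (k c) = dg N (k (i (j z))) := by rw [← dg_mul, ← map_mul, hz]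
      rw [this]
      exact htriv z) (by
      obtain ⟨z, hz⟩ := hrr
      have : dg N r * dg N r = dg N (k (i (j z))) := by rw [← dg_mul, hz]
      rw [this]
      exact htriv z) (by
      have h3 : r * k c = k (i (j zr)) * (k c * r) := by
        have := q.rc
        rw [mul_inv_eq_iff_eq_mul] at this
        rw [this, mul_assoc]
      rw [← dg_mul N r (k c), h3, dg_mul N (k (i (j zr))), map_mul ρ (dg N (k (i (j zr)))), htriv zr, one_mul, dg_mul])
  rw [hρξ, ← dg_mul, ← dg_mul, ← dg_mul, ← dg_mul, wc, wr, wcr, add_zero, add_zero, add_zero] at hI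
  have hq : IsIntegral ℤ (((1 / 2 : ℚ) : ℚ) : ℂ) ∨ IsIntegral ℤ (((-1 / 2 : ℚ) : ℚ) : ℂ) := by
    rcases w0 with h | h
    · left
      rw [h] at hI
      convert hI using 1
      norm_num
    · right
      rw [h] at hI
      convert hI using 1
      norm_num
  have key : ∀ q : ℚ, IsIntegral ℤ ((q : ℚ) : ℂ) → ∃ m : ℤ, (m : ℚ) = q := by
    intro q hq
    have h3 : IsIntegral ℤ q := (isIntegral_algebraMap_iff (algebraMap ℚ ℂ).injective).1 hq
    obtain ⟨m, hm⟩ := IsIntegrallyClosed.isIntegral_iff.1 h3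
    exact ⟨m, hm⟩
  rcases hq with h | h
  · obtain ⟨m, hm⟩ := key _ h
    have h3 : ((2 * m : ℤ) : ℚ) = 1 := by push_cast; rw [hm]; norm_num
    have h4 : 2 * m = 1 := by exact_mod_cast h3
    omega
  · obtain ⟨m, hm⟩ := key _ h
    have h3 : ((2 * m : ℤ) : ℚ) = -1 := by push_cast; rw [hm]; norm_num
    have h4 : 2 * m = -1 := by exact_mod_cast h3
    omega

/-- an extension lies over the same central character -/
theorem over_of_resh {V : Type u} [Group V] [Finite V] {i' : A →* V} (hz : ∀ (z : Z) (v : V), i' (j z) * v = v * i' (j z))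
    {χ : IrrCharacter V} {η : A → ℂ} (he : ∀ a : A, (χ : V → ℂ) (i' a) = η a) (ho : Over j lam η) :
    Over (i'.comp j) lam (χ : V → ℂ) := by
  intro z w
  obtain ⟨ω, -, h2⟩ := exists_scal χ.2 (s := i' (j z)) (fun g => hz z g)
  rw [MonoidHom.comp_apply, h2]
  have h3 := h2 1
  rw [mul_one] at h3
  have h4 := ho z 1
  rw [mul_one, ← he, ← he, h3, map_one] at h4
  have h6 : (χ : V → ℂ) 1 ≠ 0 := isIrr_apply_one_ne_zero χ.2
  rw [mul_right_cancel₀ h6 h4]

/-- the dichotomy for an extension of an `r`-invariant character -/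
theorem dich (q : Quad j i k x c r zr) {η : IrrCharacter A} (hη : Inv (k.comp i) r (η : A → ℂ))
    (hηc : Inv i c (η : A → ℂ)) (φ : IrrCharacter B) (hφ : ∀ a, (φ : B → ℂ) (i a) = (η : A → ℂ) a) :
    Inv k r (φ : B → ℂ) ∨ ∀ b b' : B, k b' = r * k b * r⁻¹ → (b ∈ i.range → (φ : B → ℂ) b' = (φ : B → ℂ) b) ∧
      (b ∉ i.range → (φ : B → ℂ) b' = -(φ : B → ℂ) b) := by
  have hBf : Finite B := q.finB
  obtain ⟨ρ, hρ⟩ := q.exists_conj
  obtain ⟨ψ, ψ', -, -, -, hsg, hu⟩ := exists_ext q.h1 q.cB η hηc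
  have hirr : IsIrrCharacter B ((φ : B → ℂ) ∘ ρ) := isIrr_comp ρ.toMonoidHom ρ.surjective φ.2
  have hρA : ∀ a, (φ : B → ℂ) (ρ (i a)) = (η : A → ℂ) a := by
    intro a
    obtain ⟨a', ha'⟩ := q.nA a
    have h1 : ρ (i a) = i a' := by
      apply q.h2.ii
      rw [hρ, ha']
    rw [h1, hφ]
    exact hη a a' ha'
  have hb' : ∀ b b' : B, k b' = r * k b * r⁻¹ → b' = ρ b := fun b b' h => q.h2.ii (by rw [h, hρ])
  have e1 := hu φ hφ
  have e2 := hu ⟨_, hirr⟩ hρA
  by_cases heq : (⟨_, hirr⟩ : IrrCharacter B) = φ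
  · left
    intro b b' hb
    rw [hb' b b' hb]
    exact congrArg (fun f : IrrCharacter B => (f : B → ℂ) b) heq
  · right
    intro b b' hb
    rw [hb' b b' hb]
    constructor
    · rintro ⟨a, rfl⟩
      rw [hρA, hφ]
    · intro hbA
      rcases e1 with e1 | e1 <;> rcases e2 with e2 | e2
      · exact absurd (e2.trans e1.symm) heq
      · have e4 := congrArg (fun f : IrrCharacter B => (f : B → ℂ) b) e2
        have e5 := congrArg (fun f : IrrCharacter B => (f : B → ℂ) b) e1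
        exact e4.trans ((hsg b hbA).trans (congrArg (fun t => -t) e5.symm))
      · have e4 := congrArg (fun f : IrrCharacter B => (f : B → ℂ) b) e2
        have e5 := congrArg (fun f : IrrCharacter B => (f : B → ℂ) b) e1
        have e7 : (φ : B → ℂ) b = -(ψ : B → ℂ) b := e5.trans (hsg b hbA)
        have e8 : -(φ : B → ℂ) b = (ψ : B → ℂ) b := by rw [e7, neg_neg]
        exact e4.trans e8.symm
      · exact absurd (e2.trans e1.symm) heq

/-- **THE SIGN LEMMA**: hypothesis `hκ` of `Quad.non` -/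
theorem kappa (q : Quad j i k x c r zr) (s : Six j lam x)
    (hfc : Nat.card {η : IrrCharacter A // Over j lam (η : A → ℂ) ∧ (η : A → ℂ) x ≠ 0 ∧ Inv i c (η : A → ℂ)} = 2)
    (hfr : Nat.card {η : IrrCharacter A // Over j lam (η : A → ℂ) ∧ (η : A → ℂ) x ≠ 0 ∧
      Inv (k.comp i) r (η : A → ℂ)} = 4)
    (hfcr : Nat.card {η : IrrCharacter A // Over j lam (η : A → ℂ) ∧ (η : A → ℂ) x ≠ 0 ∧
      Inv (k.comp i) (k c * r) (η : A → ℂ)} = 4)
    (hψ : ∀ χ : IrrCharacter B, Over (i.comp j) lam (χ : B → ℂ) → IsIrrCharacter A (fun t => (χ : B → ℂ) (i t)) →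
      (χ : B → ℂ) (i x) ^ 2 = 1 → (χ : B → ℂ) (i x * c) ≠ 0)
    (hx3 : x ^ 3 = 1) (hrr : ∃ z, r * r = k (i (j z)))
    (V0 : ∀ χ : IrrCharacter B, Over (i.comp j) lam (χ : B → ℂ) → (χ : B → ℂ) (i x) ^ 2 = 4 → (χ : B → ℂ) (i x * c) = 0)
    {i1 : A →* W1} {k1 : W1 →* W} (hk1 : Function.Injective k1) (e1 : ∀ a, k1 (i1 a) = k (i a))
    (hi1 : i1.range.index = 2) {r1 : W1} (hr1 : k1 r1 = r)
    (V1 : ∀ χ : IrrCharacter W1, Over (i1.comp j) lam (χ : W1 → ℂ) → (χ : W1 → ℂ) (i1 x) ^ 2 = 4 →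
      (χ : W1 → ℂ) (i1 x * r1) = 0)
    {i2 : A →* W2} {k2 : W2 →* W} (hk2 : Function.Injective k2) (e2 : ∀ a, k2 (i2 a) = k (i a))
    (hi2 : i2.range.index = 2) {r2 : W2} (hr2 : k2 r2 = k c * r)
    (V2 : ∀ χ : IrrCharacter W2, Over (i2.comp j) lam (χ : W2 → ℂ) → (χ : W2 → ℂ) (i2 x) ^ 2 = 4 →
      (χ : W2 → ℂ) (i2 x * r2) = 0) :
    ∀ χ : IrrCharacter B, Over (i.comp j) lam (χ : B → ℂ) → IsIrrCharacter A (fun t => (χ : B → ℂ) (i t)) →
      (χ : B → ℂ) (i x) ^ 2 = 4 → (Inv k r (χ : B → ℂ) ↔ lam zr ≠ 1) := by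
  classical
  have hBf : Finite B := q.finB
  have hAf : Finite A := q.finA
  have hW1f : Finite W1 := Finite.of_injective k1 hk1
  have hW2f : Finite W2 := Finite.of_injective k2 hk2
  obtain ⟨-, -, -, hone⟩ := q.invs s hfc hfr hfcr
  have hcr := (q.invs s hfc hfr hfcr).1
  obtain ⟨η1, ⟨ho1, hx1, hv1⟩, hc1⟩ := (Nat.card_eq_one_iff_unique.1 hone).2
  have hr1' := hcr η1 ho1 hx1 hc1
  have hzB : ∀ (z : Z) (v : B), i (j z) * v = v * i (j z) := q.h1.cen
  obtain ⟨χ1, -, -, he1, -, -, -⟩ := exists_ext q.h1 q.cB η1 hc1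
  have hχ1o : Over (i.comp j) lam (χ1 : B → ℂ) := over_of_resh hzB he1 ho1
  have hχ1i : IsIrrCharacter A (fun t => (χ1 : B → ℂ) (i t)) := by rw [funext he1]; exact η1.2
  have hχ1x : (χ1 : B → ℂ) (i x) ^ 2 = 1 := by rw [he1]; exact hv1
  have hχ1c := hψ χ1 hχ1o hχ1i hχ1x
  intro χ hχo hχi hχ4
  set σ : IrrCharacter A := ⟨_, hχi⟩ with hσ
  have hσo : Over j lam (σ : A → ℂ) := fun z a => by
    have h1 := hχo z (i a)
    rw [MonoidHom.comp_apply, ← map_mul] at h1
    exact h1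
  have hσ4 : (σ : A → ℂ) x ^ 2 = 4 := hχ4
  have hσx : (σ : A → ℂ) x ≠ 0 := fun h => by rw [h] at hσ4; norm_num at hσ4
  have hz : ∀ z, (k.comp i) (j z) * r = r * (k.comp i) (j z) := fun z => q.h2.cen z r
  have hzc : ∀ z, i (j z) * c = c * i (j z) := fun z => q.h1.cen z c
  have hσc : Inv i c (σ : A → ℂ) := Cfsg.Agent.H155.TI.special_inv s q.h1.ii q.nrmA hzc q.cx hσo hσ4
  have hσr : Inv (k.comp i) r (σ : A → ℂ) := Cfsg.Agent.H155.TI.special_inv s q.kinj q.nA hz q.rx hσo hσ4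
  -- extensions to `W1`, `W2`
  have hp1 : Pair j i1 := ⟨q.h1.ji, fun a b h => q.kinj (by
    show k (i a) = k (i b)
    rw [← e1, ← e1, h]), hi1, fun z w => hk1 (by
      rw [map_mul, map_mul, e1]
      exact q.h2.cen z (k1 w))⟩
  have hp2 : Pair j i2 := ⟨q.h1.ji, fun a b h => q.kinj (by
    show k (i a) = k (i b)
    rw [← e2, ← e2, h]), hi2, fun z w => hk2 (by
      rw [map_mul, map_mul, e2]
      exact q.h2.cen z (k2 w))⟩
  have hr1n : r1 ∉ i1.range := by
    rintro ⟨a, ha⟩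
    refine q.rW ⟨i a, ?_⟩
    rw [← e1, ha, hr1]
  have hr2n : r2 ∉ i2.range := by
    rintro ⟨a, ha⟩
    refine q.rW ⟨c⁻¹ * i a, ?_⟩
    rw [map_mul, ← e2, ha, hr2, map_inv, inv_mul_cancel_left]
  have tr1 : ∀ {η : A → ℂ}, Inv (k.comp i) r η → Inv i1 r1 η := by
    intro η h a a' ha
    refine h a a' ?_
    show k (i a') = r * k (i a) * r⁻¹
    rw [← e1, ← e1, ha, map_mul, map_mul, map_inv, hr1]
  have tr2 : ∀ {η : A → ℂ}, Inv (k.comp i) (k c * r) η → Inv i2 r2 η := by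
    intro η h a a' ha
    refine h a a' ?_
    show k (i a') = k c * r * k (i a) * (k c * r)⁻¹
    rw [← e2, ← e2, ha, map_mul, map_mul, map_inv, hr2]
  obtain ⟨α1, -, -, ha1, -, -, -⟩ := exists_ext hp1 hr1n σ (tr1 hσr)
  obtain ⟨β1, -, -, hb1, -, -, -⟩ := exists_ext hp1 hr1n η1 (tr1 hr1')
  obtain ⟨α2, -, -, ha2, -, -, -⟩ := exists_ext hp2 hr2n σ (tr2 (q.inv_mul hσr (q.inv_c.2 hσc)))
  obtain ⟨β2, -, -, hb2, -, -, -⟩ := exists_ext hp2 hr2n η1 (tr2 (q.inv_mul hr1' (q.inv_c.2 hc1)))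
  have hα1 : (α1 : W1 → ℂ) (i1 x * r1) = 0 :=
    V1 α1 (over_of_resh hp1.cen ha1 hσo) (by rw [ha1]; exact hσ4)
  have hα2 : (α2 : W2 → ℂ) (i2 x * r2) = 0 :=
    V2 α2 (over_of_resh hp2.cen ha2 hσo) (by rw [ha2]; exact hσ4)
  have hval : (χ : B → ℂ) (i x) * conj ((χ1 : B → ℂ) (i x)) = 2 ∨ (χ : B → ℂ) (i x) * conj ((χ1 : B → ℂ) (i x)) = -2 := by
    have g1 : (χ : B → ℂ) (i x) = 2 ∨ (χ : B → ℂ) (i x) = -2 := by
      have h1 : ((χ : B → ℂ) (i x) - 2) * ((χ : B → ℂ) (i x) + 2) = 0 := by linear_combination hχ4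
      rcases mul_eq_zero.1 h1 with h2 | h2
      · exact Or.inl (sub_eq_zero.1 h2)
      · exact Or.inr (eq_neg_of_add_eq_zero_left h2)
    have g2 : (χ1 : B → ℂ) (i x) = 1 ∨ (χ1 : B → ℂ) (i x) = -1 := by
      have h1 : ((χ1 : B → ℂ) (i x) - 1) * ((χ1 : B → ℂ) (i x) + 1) = 0 := by linear_combination hχ1x
      rcases mul_eq_zero.1 h1 with h2 | h2
      · exact Or.inl (sub_eq_zero.1 h2)
      · exact Or.inr (eq_neg_of_add_eq_zero_left h2)
    rcases g1 with e | e <;> rcases g2 with e' | e' <;> rw [e, e'] <;> norm_num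
  have hfalse : (∀ b b' d d' : B, k b' = r * k b * r⁻¹ → k d' = r * k d * r⁻¹ → b⁻¹ * d ∈ i.range →
      (χ : B → ℂ) b' * conj ((χ1 : B → ℂ) d') = (χ : B → ℂ) b * conj ((χ1 : B → ℂ) d)) → False := fun hinv =>
    sgn_auxh q hx3 hrr hk1 e1 hi1 hr1 hk2 e2 hi2 hr2 hχo hχ1o hχi hχ1i hinv hval (V0 χ hχo hχ4)
      ⟨α1, β1, fun a => ha1 a, fun a => (hb1 a).trans (he1 a).symm, hα1⟩
      ⟨α2, β2, fun a => ha2 a, fun a => (hb2 a).trans (he1 a).symm, hα2⟩
  constructor
  · intro hI hz1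
    have hI1 : Inv k r (χ1 : B → ℂ) := q.inv_of_ext hz1 χ1 hχ1o η1 he1 hr1' hχ1c
    exact hfalse fun b b' d d' hb hd _ => by rw [hI b b' hb, hI1 d d' hd]
  · intro hz1
    rcases dich q hσr hσc χ (fun a => rfl) with h | h
    · exact h
    · exfalso
      rcases dich q hr1' hc1 χ1 he1 with h' | h'
      · apply hz1
        have h3 := q.val_rc (lam := lam) _ hχ1o h'
        apply Units.ext
        rw [Units.val_one]
        apply mul_right_cancel₀ hχ1c
        rw [h3, one_mul]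
      · refine hfalse fun b b' d d' hb hd hbd => ?_
        by_cases hm : b ∈ i.range
        · have hd' : d ∈ i.range := (Subgroup.mul_mem_cancel_left _ (Subgroup.inv_mem _ hm)).1 hbd
          rw [(h b b' hb).1 hm, (h' d d' hd).1 hd']
        · have hd' : d ∉ i.range := fun hd' => hm (by
            have := Subgroup.mul_mem _ hd' (Subgroup.inv_mem _ hbd)
            have e : d * (b⁻¹ * d)⁻¹ = b := by group
            rwa [e] at this)
          rw [(h b b' hb).2 hm, (h' d d' hd).2 hd', map_neg]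
          ring

end mainh

end Cfsg.Agent.H185.TI
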