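import Cfsg.Agent.H41.TI.Clif
import Cfsg.Agent.S0188
import Cfsg.Agent.CharactersDeep.MaxInduced
import Cfsg.Agent.CharactersDeep.TracePow

/-!
# Row `PSL₃(4)` of S4819, S4820 : the sign lemma (helper185)

`A ≤ K ≤ Γ` normal, both of index 2; `χ₁`, `χ₂` characters of `K` irreducible on `A`; `r ∉ K`. If the signs by which
`r` moves `χ₁` and `χ₂` are equal then the function `χ₂(g) conj χ₁(h)` extends to the fibre product
`{(g, h) : g A = h A}`, and the mean of the extension over the diagonal of a four-group is a half integer.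
-/

set_option autoImplicit false

open scoped ComplexConjugate
open Cfsg Cfsg.Agent.Characters.Core

namespace Cfsg.Agent.H185.TI

open Cfsg.Agent.H155.TI (Over Pair Inv Kap)
open Cfsg.Agent.H41.TI (exists_ext)

universe u

section fib

variable {Γ : Type u} [Group Γ] (A : Subgroup Γ) [hA : A.Normal]

/-- the fibre product of `Γ` with itself over `Γ / A` -/
def Fib : Subgroup (Γ × Γ) where
  carrier := {p | p.1⁻¹ * p.2 ∈ A}
  one_mem' := by simp
  mul_mem' := by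
    rintro ⟨a, b⟩ ⟨c, d⟩ (h1 : a⁻¹ * b ∈ A) (h2 : c⁻¹ * d ∈ A)
    show (a * c)⁻¹ * (b * d) ∈ A
    have h3 : (a * c)⁻¹ * (b * d) = (c⁻¹ * (a⁻¹ * b) * (c⁻¹)⁻¹) * (c⁻¹ * d) := by group
    rw [h3]
    exact A.mul_mem (hA.conj_mem _ h1 c⁻¹) h2
  inv_mem' := by
    rintro ⟨a, b⟩ (h1 : a⁻¹ * b ∈ A)
    show (a⁻¹)⁻¹ * b⁻¹ ∈ A
    have h3 : (a⁻¹)⁻¹ * b⁻¹ = b * (a⁻¹ * b)⁻¹ * b⁻¹ := by group
    rw [h3]
    exact hA.conj_mem _ (A.inv_mem h1) b

theorem mem_Fib {p : Γ × Γ} : p ∈ Fib A ↔ p.1⁻¹ * p.2 ∈ A := Iff.rfl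

/-- diagonal elements -/
def dg (g : Γ) : Fib A := ⟨(g, g), by rw [mem_Fib]; simp⟩

theorem dg_mul (g h : Γ) : dg A (g * h) = dg A g * dg A h := rfl

/-- first projection -/
def p1 : Fib A →* Γ := (MonoidHom.fst Γ Γ).comp (Fib A).subtype

/-- second projection -/
def p2 : Fib A →* Γ := (MonoidHom.snd Γ Γ).comp (Fib A).subtype

theorem p1_surj : Function.Surjective (p1 A) := fun g => ⟨dg A g, rfl⟩

variable {A}

theorem p2_mem {W : Subgroup Γ} (hW : A ≤ W) {q : Fib A} (hq : p1 A q ∈ W) : p2 A q ∈ W := by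
  have h1 : (p1 A q)⁻¹ * p2 A q ∈ A := q.2
  have h2 : p2 A q = p1 A q * ((p1 A q)⁻¹ * p2 A q) := by group
  rw [h2]
  exact W.mul_mem hq (hW h1)

theorem p2_mem_iff {W : Subgroup Γ} (hW : A ≤ W) {q : Fib A} : p2 A q ∈ W ↔ p1 A q ∈ W := by
  refine ⟨fun hq => ?_, p2_mem hW⟩
  have h1 : (p1 A q)⁻¹ * p2 A q ∈ A := q.2
  have h2 : p1 A q = p2 A q * ((p1 A q)⁻¹ * p2 A q)⁻¹ := by group
  rw [h2]
  exact W.mul_mem hq (W.inv_mem (hW h1))

variable (A) in
/-- the part of the fibre product over `W` -/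
def FW (W : Subgroup Γ) : Subgroup (Fib A) := W.comap (p1 A)

theorem mem_FW {W : Subgroup Γ} {q : Fib A} : q ∈ FW A W ↔ p1 A q ∈ W := Iff.rfl

theorem FW_index (W : Subgroup Γ) : (FW A W).index = W.index :=
  Subgroup.index_comap_of_surjective W (p1_surj A)

/-- first projection to `W` -/
def q1 (W : Subgroup Γ) : FW A W →* W where
  toFun q := ⟨p1 A q, q.2⟩
  map_one' := rfl
  map_mul' _ _ := rfl

/-- second projection to `W` -/
def q2 {W : Subgroup Γ} (hW : A ≤ W) : FW A W →* W where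
  toFun q := ⟨p2 A q, p2_mem hW q.2⟩
  map_one' := rfl
  map_mul' _ _ := rfl

theorem q1_surj (W : Subgroup Γ) : Function.Surjective (q1 (A := A) W) :=
  fun w => ⟨⟨dg A w, w.2⟩, rfl⟩

/-- `A × A` in the fibre product -/
def aa {W : Subgroup Γ} (hW : A ≤ W) : A × A →* FW A W where
  toFun t := ⟨⟨(t.1, t.2), by
    rw [mem_Fib]
    exact A.mul_mem (A.inv_mem t.1.2) t.2.2⟩, hW t.1.2⟩
  map_one' := rfl
  map_mul' _ _ := rfl

theorem aa_inj {W : Subgroup Γ} (hW : A ≤ W) : Function.Injective (aa hW) := by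
  rintro ⟨a, b⟩ ⟨a', b'⟩ h
  have h1 := congrArg (fun q : FW A W => p1 A q) h
  have h2 := congrArg (fun q : FW A W => p2 A q) h
  exact Prod.ext (Subtype.ext h1) (Subtype.ext h2)

theorem aa_range {W : Subgroup Γ} (hW : A ≤ W) : (aa hW).range = (A.subgroupOf W).comap (q1 W) := by
  ext q
  rw [MonoidHom.mem_range, Subgroup.mem_comap, Subgroup.mem_subgroupOf]
  constructor
  · rintro ⟨t, rfl⟩
    exact t.1.2
  · intro hq
    have h1 : p1 A q ∈ A := hq
    have h2 : p2 A q ∈ A := p2_mem le_rfl h1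
    exact ⟨(⟨_, h1⟩, ⟨_, h2⟩), rfl⟩

theorem aa_index {W : Subgroup Γ} (hW : A ≤ W) : (aa hW).range.index = A.relIndex W := by
  rw [aa_range, Subgroup.index_comap_of_surjective _ (q1_surj W)]
  rfl

/-- the outer product on the fibre product -/
noncomputable def out {W : Subgroup Γ} (hW : A ≤ W) (α β : W → ℂ) (q : FW A W) : ℂ :=
  α (q1 W q) * conj (β (q2 hW q))

theorem out_irr [Finite Γ] {W : Subgroup Γ} (hW : A ≤ W) {α β : W → ℂ} (hα : IsIrrCharacter W α)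
    (hβ : IsIrrCharacter W β) (hα' : IsIrrCharacter A (fun a => α (Subgroup.inclusion hW a)))
    (hβ' : IsIrrCharacter A (fun a => β (Subgroup.inclusion hW a))) :
    IsIrrCharacter (FW A W) (out hW α β) := by
  refine CharactersDeep.MaxInduced.isIrr_of_comp (aa hW) ?_ ?_
  · exact isCharacter_mul (isCharacter_comp (q1 W) (isIrr_isCharacter hα))
      (isCharacter_comp (q2 hW) (isIrr_isCharacter (isIrr_conj hβ)))
  · exact S0188.isIrr_outer hα' (isIrr_conj hβ')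

/-- the trivial central embedding -/
theorem pair_triv {B W : Type u} [Group B] [Group W] (i : B →* W) (hi : Function.Injective i)
    (h2 : i.range.index = 2) : Pair (1 : PUnit.{u+1} →* B) i where
  ji := fun _ _ _ => rfl
  ii := hi
  idx := h2
  cen := fun _ w => by simp

/-- an irreducible function on the fibre product with a zero on one side has a zero -/
theorem zero_at [Finite Γ] {W : Subgroup Γ} (hW : A ≤ W) (hidx : A.relIndex W = 2) {ξ : Fib A → ℂ}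
    (hξ : IsIrrCharacter (Fib A) ξ) {α β : IrrCharacter W}
    (hα' : IsIrrCharacter A (fun a => (α : W → ℂ) (Subgroup.inclusion hW a)))
    (hβ' : IsIrrCharacter A (fun a => (β : W → ℂ) (Subgroup.inclusion hW a)))
    (he : ∀ a b : A, ξ (aa hW (a, b)) =
      (α : W → ℂ) (Subgroup.inclusion hW a) * conj ((β : W → ℂ) (Subgroup.inclusion hW b)))
    {y : W} (hy : (y : Γ) ∉ A) (h0 : (α : W → ℂ) y = 0) : ξ (dg A y) = 0 := by
  have hp := pair_triv (aa hW) (aa_inj hW) ((aa_index hW).trans hidx)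
  have hηi : IsIrrCharacter (A × A) (fun t => (α : W → ℂ) (Subgroup.inclusion hW t.1) *
      conj ((β : W → ℂ) (Subgroup.inclusion hW t.2))) := S0188.isIrr_outer hα' (isIrr_conj hβ')
  have hyr : (⟨dg A y, y.2⟩ : FW A W) ∉ (aa hW).range := by
    rw [aa_range, Subgroup.mem_comap, Subgroup.mem_subgroupOf]
    exact hy
  have hres : IsIrrCharacter (FW A W) (fun q => ξ q) :=
    CharactersDeep.MaxInduced.isIrr_of_comp (aa hW) (isCharacter_comp (FW A W).subtype (isIrr_isCharacter hξ)) (by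
      have h1 : ((fun q : FW A W => ξ q) ∘ aa hW) = (fun t : A × A => (α : W → ℂ) (Subgroup.inclusion hW t.1) *
          conj ((β : W → ℂ) (Subgroup.inclusion hW t.2))) := funext fun t => he t.1 t.2
      rw [h1]
      exact hηi)
  obtain ⟨χ, χ', -, -, -, h4, h5⟩ := exists_ext hp hyr ⟨_, hηi⟩ (by
    intro a a' h
    show (α : W → ℂ) (Subgroup.inclusion hW a'.1) * conj ((β : W → ℂ) (Subgroup.inclusion hW a'.2)) =
      (α : W → ℂ) (Subgroup.inclusion hW a.1) * conj ((β : W → ℂ) (Subgroup.inclusion hW a.2))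
    rw [← he, ← he]
    have h1 : aa hW (a'.1, a'.2) = _ := h
    rw [h1]
    exact isIrr_isClassFunction hξ _ _)
  have h6 := h5 ⟨_, hres⟩ fun t => he t.1 t.2
  have h7 := h5 ⟨_, out_irr hW α.2 β.2 hα' hβ'⟩ fun t => rfl
  have h8 : out hW (α : W → ℂ) (β : W → ℂ) ⟨dg A y, y.2⟩ = 0 := by
    show (α : W → ℂ) y * _ = 0
    rw [h0, zero_mul]
  have h9 := h4 _ hyr
  have h10 : (χ : FW A W → ℂ) ⟨dg A y, y.2⟩ = 0 ∧ (χ' : FW A W → ℂ) ⟨dg A y, y.2⟩ = 0 := by
    rcases h7 with h | h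
    · have h11 := congrArg (fun f : IrrCharacter (FW A W) => (f : FW A W → ℂ) ⟨dg A y, y.2⟩) h
      have h12 : out hW (α : W → ℂ) (β : W → ℂ) ⟨dg A y, y.2⟩ = (χ : FW A W → ℂ) ⟨dg A y, y.2⟩ := h11
      rw [h8] at h12
      exact ⟨h12.symm, by rw [h9, ← h12, neg_zero]⟩
    · have h11 := congrArg (fun f : IrrCharacter (FW A W) => (f : FW A W → ℂ) ⟨dg A y, y.2⟩) h
      have h12 : out hW (α : W → ℂ) (β : W → ℂ) ⟨dg A y, y.2⟩ = (χ' : FW A W → ℂ) ⟨dg A y, y.2⟩ := h11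
      rw [h8] at h12
      refine ⟨?_, h12.symm⟩
      rw [← h12] at h9
      exact neg_eq_zero.1 h9.symm
  rcases h6 with h | h
  · have h11 := congrArg (fun f : IrrCharacter (FW A W) => (f : FW A W → ℂ) ⟨dg A y, y.2⟩) h
    exact h11.trans h10.1
  · have h11 := congrArg (fun f : IrrCharacter (FW A W) => (f : FW A W → ℂ) ⟨dg A y, y.2⟩) h
    exact h11.trans h10.2

end fib

/-- the mean over a four-group is integral -/
theorem four_int {D V : Type*} [Group D] [AddCommGroup V] [Module ℂ V] [FiniteDimensional ℂ V]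
    (ρ : Representation ℂ D V) {x c r : D} (hx : x ^ 3 = 1) (hcx : c * x = x * c) (hrx : r * x = x * r)
    (hc : ρ (c * c) = 1) (hr : ρ (r * r) = 1) (hcr : ρ (c * r) = ρ (r * c)) :
    IsIntegral ℤ ((1 / 4 : ℂ) * (ρ.character x + ρ.character (x * c) + ρ.character (x * r) +
      ρ.character (x * (c * r)))) := by
  set E : Module.End ℂ V := (1 / 4 : ℂ) • (1 + ρ c + ρ r + ρ (c * r)) with hE
  have hc' : ρ c * ρ c = 1 := by rw [← map_mul]; exact hc
  have hr' : ρ r * ρ r = 1 := by rw [← map_mul]; exact hr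
  have hcr' : ρ r * ρ c = ρ c * ρ r := by rw [← map_mul, ← map_mul]; exact hcr.symm
  have hcr2 : ρ (c * r) = ρ c * ρ r := map_mul ρ c r
  have h1 : ρ c * E = E := by
    rw [hE, mul_smul_comm]
    congr 1
    rw [hcr2, mul_add, mul_add, mul_add, mul_one, hc', ← mul_assoc, hc', one_mul]
    abel
  have h2 : ρ r * E = E := by
    rw [hE, mul_smul_comm]
    congr 1
    rw [hcr2, mul_add, mul_add, mul_add, mul_one, hr', ← mul_assoc, hcr', mul_assoc, hr', mul_one]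
    abel
  have hEE : E * E = E := by
    conv_lhs => lhs; rw [hE]
    rw [smul_mul_assoc, hcr2, add_mul, add_mul, add_mul, one_mul, mul_assoc, h1, h2, h1]
    have h3 : E + E + E + E = (4 : ℂ) • E := by
      rw [show (4 : ℂ) = 1 + 1 + 1 + 1 by norm_num, add_smul, add_smul, add_smul, one_smul]
    rw [h3, smul_smul]
    norm_num
  have hcomm : ρ x * E = E * ρ x := by
    rw [hE, mul_smul_comm, smul_mul_assoc]
    congr 1
    have e1 : ρ x * ρ c = ρ c * ρ x := by rw [← map_mul, ← map_mul, hcx]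
    have e2 : ρ x * ρ r = ρ r * ρ x := by rw [← map_mul, ← map_mul, hrx]
    rw [hcr2, mul_add, mul_add, mul_add, add_mul, add_mul, add_mul, mul_one, one_mul, e1, e2, ← mul_assoc, e1,
      mul_assoc, e2, mul_assoc]
  have h4 : (ρ x * E) ^ (3 + 1) = ρ x * E := by
    have hC : Commute (ρ x) E := hcomm
    rw [hC.mul_pow, ← map_pow, pow_succ, hx, one_mul]
    congr 1
    exact IsIdempotentElem.pow_succ_eq 3 hEE
  have h5 := CharactersDeep.TracePow.isIntegral_trace_of_pow_succ_eq _ 3 (by norm_num) h4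
  convert h5 using 1
  rw [hE, mul_smul_comm, map_smul, smul_eq_mul]
  congr 1
  rw [mul_add, mul_add, mul_add, mul_one, map_add, map_add, map_add, ← map_mul, ← map_mul, ← map_mul]
  rfl

section main

variable {Γ : Type u} [Group Γ] [Finite Γ] {Z A K W1 W2 : Subgroup Γ}

/-- **the sign argument** -/
theorem sgn_aux [A.Normal] (hZA : Z ≤ A) (hAK : A ≤ K) (lam : Z →* ℂˣ) (hZ : Z ≤ Subgroup.center Γ)
    (hK2 : K.index = 2) {x c r : Γ} (hx3 : x ^ 3 = 1) (hxA : x ∈ A) (hcK : c ∈ K) (hcA : c ∉ A) (hrK : r ∉ K)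
    (hcc : c * c ∈ Z) (hrr : r * r ∈ Z) (hcr : ∃ z ∈ Z, c * r = z * (r * c)) (hcx : c * x = x * c) (hrx : r * x = x * r)
    (h1 : A ≤ W1) (i1 : A.relIndex W1 = 2) (r1 : r ∈ W1) (h2 : A ≤ W2) (i2 : A.relIndex W2 = 2) (r2 : c * r ∈ W2)
    {α β : IrrCharacter K} (hα : Over (Subgroup.inclusion (hZA.trans hAK)) lam (α : K → ℂ))
    (hβ : Over (Subgroup.inclusion (hZA.trans hAK)) lam (β : K → ℂ))
    (hα' : IsIrrCharacter A (fun a => (α : K → ℂ) (Subgroup.inclusion hAK a)))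
    (hβ' : IsIrrCharacter A (fun a => (β : K → ℂ) (Subgroup.inclusion hAK a)))
    (hsα : ∀ k k' : K, (k' : Γ) = r * k * r⁻¹ → ((k : Γ) ∈ A → (α : K → ℂ) k' = (α : K → ℂ) k) ∧
      ((k : Γ) ∉ A → (α : K → ℂ) k' = -(α : K → ℂ) k))
    (hsβ : ∀ k k' : K, (k' : Γ) = r * k * r⁻¹ → ((k : Γ) ∈ A → (β : K → ℂ) k' = (β : K → ℂ) k) ∧
      ((k : Γ) ∉ A → (β : K → ℂ) k' = -(β : K → ℂ) k))
    (hv : (α : K → ℂ) ⟨x, hAK hxA⟩ * conj ((β : K → ℂ) ⟨x, hAK hxA⟩) = 2 ∨
      (α : K → ℂ) ⟨x, hAK hxA⟩ * conj ((β : K → ℂ) ⟨x, hAK hxA⟩) = -2)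
    (v0 : (α : K → ℂ) ⟨x * c, K.mul_mem (hAK hxA) hcK⟩ = 0)
    (v1 : ∃ α1 β1 : IrrCharacter W1, (∀ a : A, (α1 : W1 → ℂ) (Subgroup.inclusion h1 a) = (α : K → ℂ) (Subgroup.inclusion hAK a)) ∧
      (∀ a : A, (β1 : W1 → ℂ) (Subgroup.inclusion h1 a) = (β : K → ℂ) (Subgroup.inclusion hAK a)) ∧
      (α1 : W1 → ℂ) ⟨x * r, W1.mul_mem (h1 hxA) r1⟩ = 0)
    (v2 : ∃ α2 β2 : IrrCharacter W2, (∀ a : A, (α2 : W2 → ℂ) (Subgroup.inclusion h2 a) = (α : K → ℂ) (Subgroup.inclusion hAK a)) ∧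
      (∀ a : A, (β2 : W2 → ℂ) (Subgroup.inclusion h2 a) = (β : K → ℂ) (Subgroup.inclusion hAK a)) ∧
      (α2 : W2 → ℂ) ⟨x * (c * r), W2.mul_mem (h2 hxA) r2⟩ = 0) : False := by
  classical
  -- the extension
  have hp := pair_triv (FW A K).subtype Subtype.val_injective (by
    rw [Subgroup.range_subtype, FW_index, hK2])
  have hrn : dg A r ∉ (FW A K).subtype.range := by
    rw [Subgroup.range_subtype]
    exact hrK
  obtain ⟨ξ, -, -, hξ, -⟩ := exists_ext hp hrn ⟨_, out_irr hAK α.2 β.2 hα' hβ'⟩ (by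
    intro q q' h
    have e1 : p1 A q' = r * p1 A q * r⁻¹ := congrArg (p1 A) h
    have e2 : p2 A q' = r * p2 A q * r⁻¹ := congrArg (p2 A) h
    have e3 := hsα (q1 K q) (q1 K q') e1
    have e4 := hsβ (q2 hAK q) (q2 hAK q') e2
    have e5 : (((q2 hAK q : K) : Γ) ∈ A) ↔ ((q1 K q : K) : Γ) ∈ A := p2_mem_iff (A := A) (W := A) le_rfl
    show (α : K → ℂ) (q1 K q') * conj ((β : K → ℂ) (q2 hAK q')) =
      (α : K → ℂ) (q1 K q) * conj ((β : K → ℂ) (q2 hAK q))
    by_cases hm : ((q1 K q : K) : Γ) ∈ A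
    · rw [e3.1 hm, e4.1 (e5.2 hm)]
    · rw [e3.2 hm, e4.2 (fun h' => hm (e5.1 h')), map_neg]
      ring)
  have hξ' : ∀ q : FW A K, (ξ : Fib A → ℂ) q = (α : K → ℂ) (q1 K q) * conj ((β : K → ℂ) (q2 hAK q)) := hξ
  -- values
  have w0 : (ξ : Fib A → ℂ) (dg A x) = 2 ∨ (ξ : Fib A → ℂ) (dg A x) = -2 := by
    have := hξ' ⟨dg A x, hAK hxA⟩
    rcases hv with h | h
    · exact Or.inl (this.trans h)
    · exact Or.inr (this.trans h)
  have wc : (ξ : Fib A → ℂ) (dg A (x * c)) = 0 := by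
    have h3 := hξ' ⟨dg A (x * c), K.mul_mem (hAK hxA) hcK⟩
    have h4 : (α : K → ℂ) (q1 K ⟨dg A (x * c), K.mul_mem (hAK hxA) hcK⟩) = 0 := v0
    rw [h4, zero_mul] at h3
    exact h3
  have hrA : r ∉ A := fun h => hrK (hAK h)
  have hcrK : c * r ∉ K := fun h => hrK ((Subgroup.mul_mem_cancel_left K hcK).1 h)
  have wr : (ξ : Fib A → ℂ) (dg A (x * r)) = 0 := by
    obtain ⟨α1, β1, ha, hb, h0⟩ := v1
    refine zero_at (α := α1) (β := β1) h1 i1 ξ.2 ?_ ?_ ?_ (y := ⟨x * r, W1.mul_mem (h1 hxA) r1⟩)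
      (fun h => hrA ((Subgroup.mul_mem_cancel_left A hxA).1 h)) h0
    · rw [funext ha]; exact hα'
    · rw [funext hb]; exact hβ'
    · intro a b
      rw [ha, hb]
      exact hξ' (aa hAK (a, b))
  have wcr : (ξ : Fib A → ℂ) (dg A (x * (c * r))) = 0 := by
    obtain ⟨α1, β1, ha, hb, h0⟩ := v2
    refine zero_at (α := α1) (β := β1) h2 i2 ξ.2 ?_ ?_ ?_ (y := ⟨x * (c * r), W2.mul_mem (h2 hxA) r2⟩)
      (fun h => hcrK (hAK ((Subgroup.mul_mem_cancel_left A hxA).1 h))) h0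
    · rw [funext ha]; exact hα'
    · rw [funext hb]; exact hβ'
    · intro a b
      rw [ha, hb]
      exact hξ' (aa hAK (a, b))
  -- the central elements act trivially
  obtain ⟨n, ρ, hρ, hρξ⟩ := ξ.2
  have htriv : ∀ z ∈ Z, ρ (dg A z) = 1 := by
    intro z hz
    obtain ⟨s, hs⟩ := CharactersDeep.Extraspecial.exists_central_hom_rep ρ hρ
    have hzc : dg A z ∈ Subgroup.center (Fib A) := by
      rw [Subgroup.mem_center_iff]
      intro q
      have hz' := Subgroup.mem_center_iff.1 (hZ hz)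
      exact Subtype.ext (Prod.ext (hz' q.1.1) (hz' q.1.2))
    have e1 := hs ⟨dg A z, hzc⟩
    have e2 : ρ.character (dg A z) = (s ⟨dg A z, hzc⟩ : ℂ) * ρ.character 1 := by
      show LinearMap.trace ℂ _ (ρ (dg A z)) = _ * LinearMap.trace ℂ _ (ρ 1)
      rw [e1, map_smul, smul_eq_mul, map_one]
      rfl
    have e3 : ρ.character (dg A z) = ρ.character 1 := by
      rw [hρξ]
      have f1 := hξ' ⟨dg A z, hAK (hZA hz)⟩
      have f2 := hξ' 1
      have f3 := hα ⟨z, hz⟩ 1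
      have f4 := hβ ⟨z, hz⟩ 1
      rw [mul_one] at f3 f4
      have f5 : (ξ : Fib A → ℂ) (dg A z) = (α : K → ℂ) (Subgroup.inclusion (hZA.trans hAK) ⟨z, hz⟩) *
          conj ((β : K → ℂ) (Subgroup.inclusion (hZA.trans hAK) ⟨z, hz⟩)) := f1
      have f6 : (ξ : Fib A → ℂ) 1 = (α : K → ℂ) 1 * conj ((β : K → ℂ) 1) := f2
      have f7 : (lam ⟨z, hz⟩ : ℂ) * conj (lam ⟨z, hz⟩ : ℂ) = 1 := by
        have g1 : (lam ⟨z, hz⟩) ^ Nat.card Z = 1 := by rw [← map_pow, pow_card_eq_one', map_one]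
        have g2 : ((lam ⟨z, hz⟩ : ℂˣ) : ℂ) ^ Nat.card Z = 1 := by
          rw [← Units.val_pow_eq_pow_val, g1, Units.val_one]
        have g3 := Complex.norm_eq_one_of_pow_eq_one g2 Nat.card_pos.ne'
        rw [Complex.mul_conj, Complex.normSq_eq_norm_sq, g3]
        simp
      rw [f5, f6, f3, f4, map_mul]
      linear_combination ((α : K → ℂ) 1 * conj ((β : K → ℂ) 1)) * f7
    have e4 : ρ.character 1 ≠ 0 := by
      rw [hρξ]
      exact isIrr_apply_one_ne_zero ξ.2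
    rw [e3] at e2
    have e5 : (s ⟨dg A z, hzc⟩ : ℂ) = 1 := by
      have e6 : ((s ⟨dg A z, hzc⟩ : ℂ) - 1) * ρ.character 1 = 0 := by linear_combination -e2
      rcases mul_eq_zero.1 e6 with h | h
      · exact sub_eq_zero.1 h
      · exact absurd h e4
    have e7 : ρ (dg A z) = (s ⟨dg A z, hzc⟩ : ℂ) • LinearMap.id := e1
    rw [e7, e5, one_smul]
    rfl
  have hI := four_int ρ (x := dg A x) (c := dg A c) (r := dg A r) (Subtype.ext (Prod.ext hx3 hx3))
    (Subtype.ext (Prod.ext hcx hcx)) (Subtype.ext (Prod.ext hrx hrx)) (htriv _ hcc) (htriv _ hrr) (by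
      obtain ⟨z, hz, h⟩ := hcr
      rw [← dg_mul, h, dg_mul, map_mul, htriv z hz, one_mul, dg_mul])
  rw [hρξ, ← dg_mul, ← dg_mul, ← dg_mul, ← dg_mul, wc, wr, wcr, add_zero, add_zero, add_zero] at hI
  have hq : IsIntegral ℤ (((1 / 2 : ℚ) : ℚ) : ℂ) ∨ IsIntegral ℤ (((-1 / 2 : ℚ) : ℚ) : ℂ) := by
    rcases w0 with h | h
    · left
      rw [h] at hI
      convert hI using 1
      norm_num
    · right
      rw [h] at hI
      convert hI using 1
      norm_num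
  have key : ∀ q : ℚ, IsIntegral ℤ ((q : ℚ) : ℂ) → ∃ m : ℤ, (m : ℚ) = q := by
    intro q hq
    have h3 : IsIntegral ℤ q := (isIntegral_algebraMap_iff (algebraMap ℚ ℂ).injective).1 hq
    obtain ⟨m, hm⟩ := IsIntegrallyClosed.isIntegral_iff.1 h3
    exact ⟨m, hm⟩
  rcases hq with h | h
  · obtain ⟨m, hm⟩ := key _ h
    have h3 : ((2 * m : ℤ) : ℚ) = 1 := by push_cast; rw [hm]; norm_num
    have h4 : 2 * m = 1 := by exact_mod_cast h3
    omega
  · obtain ⟨m, hm⟩ := key _ h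
    have h3 : ((2 * m : ℤ) : ℚ) = -1 := by push_cast; rw [hm]; norm_num
    have h4 : 2 * m = -1 := by exact_mod_cast h3
    omega

end main

end Cfsg.Agent.H185.TI
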